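import Groth.Agent.H71.Fibre.Ker

set_option autoImplicit false
set_option linter.unusedSectionVars false
set_option linter.style.haveILetI false

open TensorProduct

namespace Groth.Agent.H71.Fib

universe u


section BC

variable {R : Type*} [CommRing R] {A : Type*} [CommRing A] [Algebra R A]
variable {P₁ P₂ : Type*} [AddCommGroup P₁] [Module R P₁] [AddCommGroup P₂] [Module R P₂]
variable {Q₁ Q₂ : Type*} [AddCommGroup Q₁] [Module R Q₁] [Module A Q₁] [IsScalarTower R A Q₁]
  [AddCommGroup Q₂] [Module R Q₂] [Module A Q₂] [IsScalarTower R A Q₂]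
variable (L : Type*) [AddCommGroup L] [Module R L] [Module A L] [IsScalarTower R A L]

/-- the comparison equivalence `L ⊗[A] Q ≃ L ⊗[R] P` for a base change `P → Q` along `R → A` -/
noncomputable def bcEquiv {P Q : Type*} [AddCommGroup P] [Module R P] [AddCommGroup Q]
    [Module R Q] [Module A Q] [IsScalarTower R A Q] {g : P →ₗ[R] Q} (h : IsBaseChange A g) :
    L ⊗[A] Q ≃ₗ[A] L ⊗[R] P :=
  (LinearEquiv.lTensor L h.equiv.symm).trans (AlgebraTensorModule.cancelBaseChange R A A L P)

lemma bcEquiv_tmul {P Q : Type*} [AddCommGroup P] [Module R P] [AddCommGroup Q]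
    [Module R Q] [Module A Q] [IsScalarTower R A Q] {g : P →ₗ[R] Q} (h : IsBaseChange A g)
    (l : L) (x : P) : bcEquiv L h (l ⊗ₜ[A] g x) = l ⊗ₜ[R] x := by
  simp [bcEquiv, IsBaseChange.equiv_symm_apply]

lemma lTensor_injective_iff_of_isBaseChange {g₁ : P₁ →ₗ[R] Q₁} {g₂ : P₂ →ₗ[R] Q₂}
    (h₁ : IsBaseChange A g₁) (h₂ : IsBaseChange A g₂) (φ : P₁ →ₗ[R] P₂) (θ : Q₁ →ₗ[A] Q₂)
    (hθ : ∀ x, θ (g₁ x) = g₂ (φ x)) :
    Function.Injective (θ.lTensor L) ↔ Function.Injective (φ.lTensor L) := by
  have key : ∀ z, bcEquiv L h₂ (θ.lTensor L z) = φ.lTensor L (bcEquiv L h₁ z) := by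
    intro z
    induction z using TensorProduct.induction_on with
    | zero => simp
    | add x y hx hy => simp only [map_add, hx, hy]
    | tmul l q =>
      revert l
      refine h₁.inductionOn q (fun q => ∀ l : L, bcEquiv L h₂ (θ.lTensor L (l ⊗ₜ[A] q)) =
        φ.lTensor L (bcEquiv L h₁ (l ⊗ₜ[A] q))) ?_ ?_ ?_ ?_
      · intro l; simp
      · intro x l
        rw [LinearMap.lTensor_tmul, hθ, bcEquiv_tmul, bcEquiv_tmul, LinearMap.lTensor_tmul]
      · intro a q ih l
        rw [← TensorProduct.smul_tmul]
        exact ih (a • l)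
      · intro q₁ q₂ ih₁ ih₂ l
        simp only [TensorProduct.tmul_add, map_add, ih₁ l, ih₂ l]
  constructor
  · intro hinj x y hxy
    have hx : x = bcEquiv L h₁ ((bcEquiv L h₁).symm x) := by simp
    have hy : y = bcEquiv L h₁ ((bcEquiv L h₁).symm y) := by simp
    rw [hx, hy, ← key, ← key] at hxy
    have := hinj ((bcEquiv L h₂).injective hxy)
    rw [hx, hy, this]
  · intro hinj x y hxy
    have := congrArg (bcEquiv L h₂) hxy
    rw [key, key] at this
    exact (bcEquiv L h₁).injective (hinj this)

end BC




section G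

variable {A : Type u} [CommRing A] {Q₁ Q₂ : Type u} [AddCommGroup Q₁] [Module A Q₁]
  [AddCommGroup Q₂] [Module A Q₂] [Module.Finite A Q₁] [Module.Finite A Q₂]
  [Module.Projective A Q₂]

/-- local statement at a prime -/
lemma localized_injective_and_free_coker (θ : Q₁ →ₗ[A] Q₂) (𝔭 : Ideal A) [𝔭.IsPrime]
    (h : Function.Injective (θ.lTensor 𝔭.ResidueField)) :
    Function.Injective (LocalizedModule.map 𝔭.primeCompl θ) ∧
      Module.Free (Localization.AtPrime 𝔭)
        (LocalizedModule 𝔭.primeCompl Q₂ ⧸ LinearMap.range (LocalizedModule.map 𝔭.primeCompl θ)) := by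
  have hb₁ := IsLocalizedModule.isBaseChange 𝔭.primeCompl (Localization.AtPrime 𝔭)
    (LocalizedModule.mkLinearMap 𝔭.primeCompl Q₁)
  have hb₂ := IsLocalizedModule.isBaseChange 𝔭.primeCompl (Localization.AtPrime 𝔭)
    (LocalizedModule.mkLinearMap 𝔭.primeCompl Q₂)
  have hinj : Function.Injective
      ((LocalizedModule.map 𝔭.primeCompl θ).lTensor
        (IsLocalRing.ResidueField (Localization.AtPrime 𝔭))) := by
    refine (lTensor_injective_iff_of_isBaseChange (A := Localization.AtPrime 𝔭)
      (IsLocalRing.ResidueField (Localization.AtPrime 𝔭)) hb₁ hb₂ θ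
      (LocalizedModule.map 𝔭.primeCompl θ) ?_).2 h
    intro x
    simp [LocalizedModule.map_mk]
  have : Module.Free (Localization.AtPrime 𝔭) (LocalizedModule 𝔭.primeCompl Q₂) :=
    Module.free_of_flat_of_isLocalRing
  constructor
  · obtain ⟨l', hl'⟩ :=
      (IsLocalRing.split_injective_iff_lTensor_residueField_injective
        (LocalizedModule.map 𝔭.primeCompl θ)).2 hinj
    exact Function.HasLeftInverse.injective ⟨l', LinearMap.congr_fun hl'⟩
  · exact Module.free_of_lTensor_residueField_injective (LocalizedModule.map 𝔭.primeCompl θ)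
      (LinearMap.range (LocalizedModule.map 𝔭.primeCompl θ)).mkQ
      (Submodule.mkQ_surjective _) (LinearMap.exact_map_mkQ_range _) hinj

end G




section G

variable {A : Type u} [CommRing A] {Q₁ Q₂ : Type u} [AddCommGroup Q₁] [Module A Q₁]
  [AddCommGroup Q₂] [Module A Q₂]

lemma localized_range_eq (S : Submonoid A) (θ : Q₁ →ₗ[A] Q₂) :
    (LinearMap.range θ).localized S = LinearMap.range (LocalizedModule.map S θ) := by
  rw [Submodule.localized, LinearMap.localized'_range_eq_range_localizedMap (Localization S) S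
    (LocalizedModule.mkLinearMap S Q₁) (LocalizedModule.mkLinearMap S Q₂)]
  rfl

/-- localization commutes with cokernels -/
noncomputable def localizedCokerEquiv (S : Submonoid A) (θ : Q₁ →ₗ[A] Q₂) :
    (LocalizedModule S Q₂ ⧸ LinearMap.range (LocalizedModule.map S θ)) ≃ₗ[Localization S]
      LocalizedModule S (Q₂ ⧸ LinearMap.range θ) :=
  (Submodule.quotEquivOfEq _ _ (localized_range_eq S θ).symm).trans
    (localizedQuotientEquiv S (LinearMap.range θ))

variable [Module.Finite A Q₁] [Module.Finite A Q₂] [Module.Projective A Q₂]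

theorem injective_and_projective_coker (θ : Q₁ →ₗ[A] Q₂)
    (h : ∀ (𝔪 : Ideal A) [𝔪.IsMaximal], Function.Injective (θ.lTensor 𝔪.ResidueField)) :
    Function.Injective θ ∧ Module.Projective A (Q₂ ⧸ LinearMap.range θ) := by
  constructor
  · exact injective_of_localized_maximal θ
      (fun J _ => (localized_injective_and_free_coker θ J (h J)).1)
  · have : Module.FinitePresentation A Q₂ := Module.finitePresentation_of_projective _ _
    have : Module.FinitePresentation A (Q₂ ⧸ LinearMap.range θ) := by
      refine Module.finitePresentation_of_surjective (LinearMap.range θ).mkQ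
        (Submodule.mkQ_surjective _) ?_
      rw [Submodule.ker_mkQ, LinearMap.range_eq_map]
      exact (Module.Finite.fg_top).map θ
    refine Module.projective_of_localization_maximal (fun I hI => ?_)
    have := (localized_injective_and_free_coker θ I (h I)).2
    exact Module.Projective.of_equiv (localizedCokerEquiv I.primeCompl θ)

end G




section FE

variable {R : Type*} [CommRing R] {P₁ P₂ : Type*} [AddCommGroup P₁] [Module R P₁]
  [AddCommGroup P₂] [Module R P₂]

lemma lTensor_injective_of_field_hom {K L : Type*} [Field K] [Field L] [Algebra R K]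
    [Algebra R L] (σ : K →ₐ[R] L) (φ : P₁ →ₗ[R] P₂) (h : Function.Injective (φ.lTensor K)) :
    Function.Injective (φ.lTensor L) := by
  letI : Algebra K L := σ.toRingHom.toAlgebra
  haveI : IsScalarTower R K L := IsScalarTower.of_algebraMap_eq (fun r => (σ.commutes r).symm)
  have h' : Function.Injective (φ.baseChange K) := h
  have h2 : Function.Injective ((φ.baseChange K).lTensor L) :=
    Module.Flat.lTensor_preserves_injective_linearMap _ h'
  refine (lTensor_injective_iff_of_isBaseChange (A := K) L (TensorProduct.isBaseChange R P₁ K)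
    (TensorProduct.isBaseChange R P₂ K) φ (φ.baseChange K) ?_).1 h2
  intro x
  simp

end FE

section T2

variable {R : Type u} [CommRing R] {P₁ P₂ : Type u} [AddCommGroup P₁] [Module R P₁]
  [AddCommGroup P₂] [Module R P₂]

lemma lTensor_residueField_injective_localizedMap (S : Submonoid R) (φ : P₁ →ₗ[R] P₂)
    (𝔪 : Ideal (Localization S)) [𝔪.IsPrime]
    (h : Function.Injective
      (φ.lTensor (𝔪.comap (algebraMap R (Localization S))).ResidueField)) :
    Function.Injective ((LocalizedModule.map S φ).lTensor 𝔪.ResidueField) := by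
  have h1 : Function.Injective (φ.lTensor 𝔪.ResidueField) :=
    lTensor_injective_of_field_hom
      (Ideal.ResidueField.mapₐ (𝔪.comap (algebraMap R (Localization S))) 𝔪
        (Algebra.ofId R (Localization S)) rfl) φ h
  have hb₁ := IsLocalizedModule.isBaseChange S (Localization S) (LocalizedModule.mkLinearMap S P₁)
  have hb₂ := IsLocalizedModule.isBaseChange S (Localization S) (LocalizedModule.mkLinearMap S P₂)
  refine (lTensor_injective_iff_of_isBaseChange (A := Localization S) 𝔪.ResidueField hb₁ hb₂ φ
    (LocalizedModule.map S φ) ?_).2 h1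
  intro x
  simp [LocalizedModule.map_mk]

end T2




section Open

variable {R : Type u} [CommRing R] {P₁ P₂ : Type u} [AddCommGroup P₁] [Module R P₁]
  [AddCommGroup P₂] [Module R P₂]

lemma isLocallyConstant_finrank_fibre' (N : Type u) [AddCommGroup N] [Module R N]
    [Module.Finite R N] [Module.Projective R N] :
    IsLocallyConstant (fun p : PrimeSpectrum R =>
      Module.finrank p.asIdeal.ResidueField (p.asIdeal.ResidueField ⊗[R] N)) := by
  have : Module.FinitePresentation R N := Module.finitePresentation_of_projective _ _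
  have h1 := Module.isLocallyConstant_rankAtStalk (R := R) (M := N)
  have h2 : (fun p : PrimeSpectrum R =>
      Module.finrank p.asIdeal.ResidueField (p.asIdeal.ResidueField ⊗[R] N)) =
      Module.rankAtStalk (R := R) N := by
    funext p
    exact (Module.rankAtStalk_eq p).symm
  rw [h2]; exact h1

theorem isOpen_setOf_lTensor_injective [Module.Finite R P₁] [Module.Projective R P₁]
    [Module.Finite R P₂] [Module.Projective R P₂] (φ : P₁ →ₗ[R] P₂) :
    IsOpen {p : PrimeSpectrum R | Function.Injective (φ.lTensor p.asIdeal.ResidueField)} := by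
  rw [isOpen_iff_forall_mem_open]
  intro p hp
  obtain ⟨g, hg, hle⟩ := exists_basicOpen_finrank_le (M := P₂ ⧸ LinearMap.range φ) p
  have ho₁ := (isLocallyConstant_finrank_fibre' (R := R) P₁).isOpen_fiber
    (Module.finrank p.asIdeal.ResidueField (p.asIdeal.ResidueField ⊗[R] P₁))
  have ho₂ := (isLocallyConstant_finrank_fibre' (R := R) P₂).isOpen_fiber
    (Module.finrank p.asIdeal.ResidueField (p.asIdeal.ResidueField ⊗[R] P₂))
  refine ⟨_, ?_, (ho₁.inter ho₂).inter (PrimeSpectrum.basicOpen g).isOpen, ⟨⟨rfl, rfl⟩, hg⟩⟩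
  rintro q ⟨⟨hq₁, hq₂⟩, hqg⟩
  have hq₁' : Module.finrank q.asIdeal.ResidueField (q.asIdeal.ResidueField ⊗[R] P₁) =
      Module.finrank p.asIdeal.ResidueField (p.asIdeal.ResidueField ⊗[R] P₁) := hq₁
  have hq₂' : Module.finrank q.asIdeal.ResidueField (q.asIdeal.ResidueField ⊗[R] P₂) =
      Module.finrank p.asIdeal.ResidueField (p.asIdeal.ResidueField ⊗[R] P₂) := hq₂
  have hc := hle q hqg
  have hp' : Function.Injective (φ.baseChange p.asIdeal.ResidueField) := hp
  have e_p := finrank_fibre_eq_add p.asIdeal.ResidueField φ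
  have e_q := finrank_fibre_eq_add q.asIdeal.ResidueField φ
  have hrp := LinearMap.finrank_range_of_inj hp'
  have hrn := LinearMap.finrank_range_add_finrank_ker (φ.baseChange q.asIdeal.ResidueField)
  have hker : Module.finrank q.asIdeal.ResidueField
      ↥(LinearMap.ker (φ.baseChange q.asIdeal.ResidueField)) = 0 := by omega
  have hbot : LinearMap.ker (φ.baseChange q.asIdeal.ResidueField) = ⊥ :=
    Submodule.finrank_eq_zero.1 hker
  have hinj : Function.Injective (φ.baseChange q.asIdeal.ResidueField) :=
    LinearMap.ker_eq_bot.1 hbot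
  exact hinj

end Open




section Main

variable {R : Type u} [CommRing R] {P₁ P₂ : Type u} [AddCommGroup P₁] [Module R P₁]
  [AddCommGroup P₂] [Module R P₂]

lemma notMem_comap_of_powers (f : R) (𝔪 : Ideal (Localization (Submonoid.powers f)))
    [𝔪.IsPrime] : f ∉ 𝔪.comap (algebraMap R (Localization (Submonoid.powers f))) := by
  rw [Ideal.mem_comap]
  intro hmem
  have hu : IsUnit (algebraMap R (Localization (Submonoid.powers f)) f) :=
    IsLocalization.map_units (M := Submonoid.powers f) _ ⟨f, Submonoid.mem_powers f⟩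
  exact (Ideal.IsPrime.ne_top inferInstance) (Ideal.eq_top_of_isUnit_mem _ hmem hu)

lemma key_away (f : R) (φ : P₁ →ₗ[R] P₂)
    (hf : ∀ q : PrimeSpectrum R, f ∉ q.asIdeal →
      Function.Injective (φ.lTensor q.asIdeal.ResidueField))
    (𝔪 : Ideal (Localization (Submonoid.powers f))) [𝔪.IsMaximal] :
    Function.Injective
        ((LocalizedModule.map (Submonoid.powers f) φ).lTensor 𝔪.ResidueField) := by
  have h := hf ⟨𝔪.comap (algebraMap R (Localization (Submonoid.powers f))), inferInstance⟩
    (notMem_comap_of_powers f 𝔪)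
  exact lTensor_residueField_injective_localizedMap (Submonoid.powers f) φ 𝔪 h

/-- S6309 -/
theorem injective_locus_coker_projective [Module.Finite R P₁] [Module.Projective R P₁]
    [Module.Finite R P₂] [Module.Projective R P₂] (φ : P₁ →ₗ[R] P₂) :
    IsOpen {p : PrimeSpectrum R | Function.Injective (φ.lTensor p.asIdeal.ResidueField)} ∧
      ∀ f : R, (↑(PrimeSpectrum.basicOpen f) : Set (PrimeSpectrum R)) ⊆
          {p : PrimeSpectrum R | Function.Injective (φ.lTensor p.asIdeal.ResidueField)} →
        Function.Injective (LocalizedModule.map (Submonoid.powers f) φ) ∧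
        Module.Finite (Localization.Away f)
          (LocalizedModule (Submonoid.powers f) (P₂ ⧸ LinearMap.range φ)) ∧
        Module.Projective (Localization.Away f)
          (LocalizedModule (Submonoid.powers f) (P₂ ⧸ LinearMap.range φ)) := by
  refine ⟨isOpen_setOf_lTensor_injective φ, fun f hf => ?_⟩
  have hf' : ∀ q : PrimeSpectrum R, f ∉ q.asIdeal →
      Function.Injective (φ.lTensor q.asIdeal.ResidueField) := fun q hq => hf hq
  obtain ⟨h1, h2⟩ := injective_and_projective_coker
    (LocalizedModule.map (Submonoid.powers f) φ) (fun 𝔪 _ => key_away f φ hf' 𝔪)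
  have e := localizedCokerEquiv (Submonoid.powers f) φ
  exact ⟨h1, Module.Finite.equiv e, Module.Projective.of_equiv e⟩

end Main


end Groth.Agent.H71.Fib
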