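import Mathlib

/-!
# Fibres of maps of modules over the points of the prime spectrum
-/

set_option autoImplicit false
set_option linter.unusedSectionVars false

open TensorProduct

namespace Groth.Agent.H71.Fib

universe u

section Basic

variable {R : Type u} [CommRing R] {M N : Type u} [AddCommGroup M] [Module R M]
  [AddCommGroup N] [Module R N]

/-- the base change of a map is surjective iff the base change of its cokernel vanishes -/
lemma lTensor_surjective_iff_subsingleton_coker (A : Type*) [CommRing A] [Algebra R A]
    (φ : M →ₗ[R] N) :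
    Function.Surjective (φ.lTensor A) ↔ Subsingleton (A ⊗[R] (N ⧸ LinearMap.range φ)) := by
  have hex : Function.Exact (φ.lTensor A) ((LinearMap.range φ).mkQ.lTensor A) :=
    lTensor_exact A (LinearMap.exact_map_mkQ_range φ) (Submodule.mkQ_surjective _)
  have hsurj : Function.Surjective ((LinearMap.range φ).mkQ.lTensor A) :=
    LinearMap.lTensor_surjective A (Submodule.mkQ_surjective _)
  constructor
  · intro h
    refine ⟨fun x y => ?_⟩
    have key : ∀ z : A ⊗[R] (N ⧸ LinearMap.range φ), z = 0 := by
      intro z
      obtain ⟨w, rfl⟩ := hsurj z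
      obtain ⟨v, rfl⟩ := h w
      exact (hex _).2 ⟨v, rfl⟩
    rw [key x, key y]
  · intro h y
    have : (LinearMap.range φ).mkQ.lTensor A y = 0 := Subsingleton.elim _ _
    exact (hex y).1 this

variable [Module.Finite R N]

/-- S6308, part 1 -/
lemma localizedMap_surjective_iff_lTensor_surjective (φ : M →ₗ[R] N) (p : PrimeSpectrum R) :
    Function.Surjective (LocalizedModule.map p.asIdeal.primeCompl φ) ↔
      Function.Surjective (φ.lTensor p.asIdeal.ResidueField) := by
  rw [LinearMap.localizedMap_surjective_iff_subsingleton_localized_coker,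
    lTensor_surjective_iff_subsingleton_coker, ← Module.notMem_support_iff,
    Module.mem_support_iff_nontrivial_residueField_tensorProduct, not_nontrivial_iff_subsingleton]

lemma setOf_localizedMap_surjective_eq (φ : M →ₗ[R] N) :
    {p : PrimeSpectrum R | Function.Surjective (LocalizedModule.map p.asIdeal.primeCompl φ)} =
      (Module.support R (N ⧸ LinearMap.range φ))ᶜ := by
  ext p
  rw [Set.mem_ofPred_eq, LinearMap.localizedMap_surjective_iff_subsingleton_localized_coker,
    Set.mem_compl_iff, Module.notMem_support_iff]

lemma isOpen_setOf_localizedMap_surjective (φ : M →ₗ[R] N) :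
    IsOpen {p : PrimeSpectrum R |
      Function.Surjective (LocalizedModule.map p.asIdeal.primeCompl φ)} := by
  rw [setOf_localizedMap_surjective_eq, isOpen_compl_iff, Module.support_eq_zeroLocus]
  exact PrimeSpectrum.isClosed_zeroLocus _

lemma localizedMap_away_surjective_of_basicOpen_subset (φ : M →ₗ[R] N) (f : R)
    (hf : (↑(PrimeSpectrum.basicOpen f) : Set (PrimeSpectrum R)) ⊆
      {p : PrimeSpectrum R | Function.Surjective (LocalizedModule.map p.asIdeal.primeCompl φ)}) :
    Function.Surjective (LocalizedModule.map (Submonoid.powers f) φ) := by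
  rw [LinearMap.localizedMap_surjective_iff_subsingleton_localized_coker]
  rw [setOf_localizedMap_surjective_eq] at hf
  show Subsingleton (LocalizedModule.Away f (N ⧸ LinearMap.range φ))
  rw [LocalizedModule.subsingleton_iff_support_subset]
  intro p hp
  by_contra hpf
  have : p ∈ (↑(PrimeSpectrum.basicOpen f) : Set (PrimeSpectrum R)) := by
    rw [PrimeSpectrum.mem_zeroLocus, Set.singleton_subset_iff] at hpf
    exact hpf
  exact hf this hp

/-- S6308 -/
theorem surjective_locus (φ : M →ₗ[R] N) :
    (∀ p : PrimeSpectrum R, Function.Surjective (LocalizedModule.map p.asIdeal.primeCompl φ) ↔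
      Function.Surjective (φ.lTensor p.asIdeal.ResidueField)) ∧
    IsOpen {p : PrimeSpectrum R |
      Function.Surjective (LocalizedModule.map p.asIdeal.primeCompl φ)} ∧
    (∀ f : R, (↑(PrimeSpectrum.basicOpen f) : Set (PrimeSpectrum R)) ⊆
      {p : PrimeSpectrum R | Function.Surjective (LocalizedModule.map p.asIdeal.primeCompl φ)} →
      Function.Surjective (LocalizedModule.map (Submonoid.powers f) φ)) :=
  ⟨localizedMap_surjective_iff_lTensor_surjective φ, isOpen_setOf_localizedMap_surjective φ,
    localizedMap_away_surjective_of_basicOpen_subset φ⟩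

end Basic

end Groth.Agent.H71.Fib
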