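import Groth.Agent.H71.Fibre.OnePlusLoc

set_option autoImplicit false
set_option linter.unusedSectionVars false

namespace Groth.Agent.H71.Fib

universe u

variable {R : Type u} [CommRing R]

/-- (2) ⇒ (1) of S6355 -/
theorem isOpen_of_closed_gen_of_flat_projective
    (H : ∀ (M : Type u) [AddCommGroup M] [Module R M], Module.Finite R M → Module.Flat R M →
      Module.Projective R M)
    (Z : Set (PrimeSpectrum R)) (hZc : IsClosed Z) (hgen : StableUnderGeneralization Z) :
    IsOpen Z := by
  obtain ⟨J, rfl⟩ : ∃ J : Ideal R, Z = PrimeSpectrum.zeroLocus (J : Set R) :=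
    (PrimeSpectrum.isClosed_iff_zeroLocus_ideal Z).1 hZc
  have hsurj := algebraMap_surjective_of_stable J hgen
  set I : Ideal R := RingHom.ker (algebraMap R (Localization (onePlus J))) with hI
  have e : (R ⧸ I) ≃ₗ[R] Localization (onePlus J) :=
    (Ideal.quotientKerAlgEquivOfSurjective (f := Algebra.ofId R (Localization (onePlus J)))
      hsurj).toLinearEquiv
  have hflat0 : Module.Flat R (Localization (onePlus J)) := IsLocalization.flat _ (onePlus J)
  have hflat : Module.Flat R (R ⧸ I) := Module.Flat.of_linearEquiv e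
  have hproj : Module.Projective R (R ⧸ I) := H (R ⧸ I) inferInstance hflat
  obtain ⟨σ, hσ⟩ := Module.projective_lifting_property (Submodule.mkQ I) LinearMap.id
    (Submodule.mkQ_surjective I)
  have hσ1 : Submodule.mkQ I (σ 1) = 1 := LinearMap.congr_fun hσ 1
  have h1 : 1 - σ 1 ∈ I := by
    rw [← Submodule.Quotient.mk_eq_zero, Submodule.Quotient.mk_sub]
    rw [Submodule.mkQ_apply] at hσ1
    rw [hσ1]
    exact sub_self _
  have h2 : ∀ x ∈ I, x * σ 1 = 0 := by
    intro x hx
    have : x • (1 : R ⧸ I) = 0 := by
      have h3 : x • (1 : R ⧸ I) = Ideal.Quotient.mk I x := by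
        rw [Algebra.smul_def, mul_one]; rfl
      rw [h3]
      exact Ideal.Quotient.eq_zero_iff_mem.2 hx
    rw [← smul_eq_mul, ← map_smul, this, map_zero]
  -- `V(I) = V(J)`
  have hZ : PrimeSpectrum.zeroLocus (I : Set R) = PrimeSpectrum.zeroLocus (J : Set R) := by
    ext p
    rw [← disjoint_onePlus_iff J _ rfl hgen p, PrimeSpectrum.mem_zeroLocus]
    constructor
    · intro hIp
      rw [Set.disjoint_left]
      intro s hs hsp
      have hcm := Ideal.comap_map_of_surjective (algebraMap R (Localization (onePlus J))) hsurj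
        p.asIdeal
      have hu : IsUnit (algebraMap R (Localization (onePlus J)) s) :=
        IsLocalization.map_units _ (⟨s, hs⟩ : onePlus J)
      have htop : p.asIdeal.map (algebraMap R (Localization (onePlus J))) = ⊤ :=
        Ideal.eq_top_of_isUnit_mem _ (Ideal.mem_map_of_mem _ hsp) hu
      rw [htop, Ideal.comap_top] at hcm
      have : p.asIdeal ⊔ Ideal.comap (algebraMap R (Localization (onePlus J))) ⊥ = p.asIdeal := by
        rw [sup_eq_left]
        exact hIp
      rw [this] at hcm
      exact p.isPrime.ne_top hcm.symm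
    · intro hdis x hx
      have hx0 : algebraMap R (Localization (onePlus J)) x = 0 := hx
      rw [IsLocalization.map_eq_zero_iff (onePlus J)] at hx0
      obtain ⟨s, hs⟩ := hx0
      have : (s : R) * x ∈ p.asIdeal := by rw [hs]; exact p.asIdeal.zero_mem
      rcases p.isPrime.mem_or_mem this with h | h
      · exact absurd h (Set.disjoint_left.1 hdis s.2)
      · exact h
  rw [← hZ]
  have : PrimeSpectrum.zeroLocus (I : Set R) = ↑(PrimeSpectrum.basicOpen (σ 1)) := by
    ext p
    rw [PrimeSpectrum.mem_zeroLocus]
    constructor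
    · intro hIp hmem
      have : (1 : R) ∈ p.asIdeal := by
        have e1 : (1 : R) = (1 - σ 1) + σ 1 := by ring
        rw [e1]
        exact p.asIdeal.add_mem (hIp h1) hmem
      exact p.isPrime.ne_top ((Ideal.eq_top_iff_one _).2 this)
    · intro hnot x hx
      have : x * σ 1 ∈ p.asIdeal := by rw [h2 x hx]; exact p.asIdeal.zero_mem
      rcases p.isPrime.mem_or_mem this with h | h
      · exact h
      · exact absurd h hnot
  rw [this]
  exact (PrimeSpectrum.basicOpen (σ 1)).isOpen

end Groth.Agent.H71.Fib
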