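import Groth.Agent.H71.Fibre.Inj

set_option autoImplicit false
set_option linter.unusedSectionVars false

open TensorProduct

namespace Groth.Agent.H71.Fib

universe u

variable {R : Type u} [CommRing R] {M : Type u} [AddCommGroup M] [Module R M]

/-- flat T3: a surjection `R_f^n → M_f` onto a finite flat module is injective when all the fibres
of `M` over `D(f)` have dimension `n` -/
theorem localizedMap_away_injective_of_flat [Module.Finite R M] [Module.Flat R M] {n : ℕ}
    (ψ : (Fin n → R) →ₗ[R] M) (f : R)
    (hsurj : Function.Surjective (LocalizedModule.map (Submonoid.powers f) ψ))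
    (hrank : ∀ q : PrimeSpectrum R, f ∉ q.asIdeal →
      Module.finrank q.asIdeal.ResidueField (q.asIdeal.ResidueField ⊗[R] M) = n) :
    Function.Injective (LocalizedModule.map (Submonoid.powers f) ψ) := by
  have hloc := (localizedMap_away_surjective_iff ψ f).1 hsurj
  have hsub : Subsingleton (LocalizedModule.Away f ↥(LinearMap.ker ψ)) := by
    rw [LocalizedModule.subsingleton_iff_support_subset]
    intro q hq
    rw [PrimeSpectrum.mem_zeroLocus, Set.singleton_subset_iff]
    by_contra hfq
    have hfq' : f ∉ q.asIdeal := hfq
    have hsq : Function.Surjective (LocalizedModule.map q.asIdeal.primeCompl ψ) := hloc hfq'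
    have : Module.Free (Localization.AtPrime q.asIdeal)
        (LocalizedModule q.asIdeal.primeCompl M) := Module.free_of_flat_of_isLocalRing
    have hr1 : Module.finrank (Localization.AtPrime q.asIdeal)
        (LocalizedModule q.asIdeal.primeCompl M) = n := by
      have := Module.rankAtStalk_eq (M := M) q
      rw [Module.rankAtStalk] at this
      rw [this]
      exact hrank q hfq'
    have hnt : Nontrivial R := q.nontrivial
    have : Module.Free (Localization.AtPrime q.asIdeal)
        (LocalizedModule q.asIdeal.primeCompl (Fin n → R)) :=
      Module.free_of_isLocalizedModule q.asIdeal.primeCompl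
        (LocalizedModule.mkLinearMap q.asIdeal.primeCompl (Fin n → R))
    have hr2 : Module.finrank (Localization.AtPrime q.asIdeal)
        (LocalizedModule q.asIdeal.primeCompl (Fin n → R)) = n := by
      have := congrFun (Module.rankAtStalk_eq_finrank_of_free (R := R) (M := Fin n → R)) q
      rw [Module.rankAtStalk] at this
      rw [this]
      simp
    have hbij := OrzechProperty.bijective_of_surjective_of_finrank_le
      (LocalizedModule.map q.asIdeal.primeCompl ψ) hsq (by rw [hr1, hr2])
    have hker : LinearMap.ker (LocalizedModule.map q.asIdeal.primeCompl ψ) = ⊥ :=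
      LinearMap.ker_eq_bot.2 hbij.1
    have hss : Subsingleton (LocalizedModule q.asIdeal.primeCompl ↥(LinearMap.ker ψ)) := by
      have e := localizedKerEquiv q.asIdeal.primeCompl ψ
      rw [hker] at e
      exact e.toEquiv.subsingleton
    rw [Module.mem_support_iff] at hq
    exact not_subsingleton _ hss
  rw [← LinearMap.ker_eq_bot, ← Submodule.subsingleton_iff_eq_bot]
  exact (localizedKerEquiv (Submonoid.powers f) ψ).symm.toEquiv.subsingleton

end Groth.Agent.H71.Fib
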