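import Groth.Agent.H71.Fibre.FlatInj

set_option autoImplicit false
set_option linter.unusedSectionVars false

open TensorProduct

namespace Groth.Agent.H71.Fib

universe u

variable {R : Type u} [CommRing R] {M : Type u} [AddCommGroup M] [Module R M]

theorem exists_away_free_of_flat [Module.Finite R M] [Module.Flat R M] (p : PrimeSpectrum R)
    (hconst : ∃ g : R, g ∉ p.asIdeal ∧ ∀ q : PrimeSpectrum R, g ∉ q.asIdeal →
      Module.finrank q.asIdeal.ResidueField (q.asIdeal.ResidueField ⊗[R] M) =
        Module.finrank p.asIdeal.ResidueField (p.asIdeal.ResidueField ⊗[R] M)) :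
    ∃ h : R, h ∉ p.asIdeal ∧
      Module.Free (Localization.Away h) (LocalizedModule (Submonoid.powers h) M) := by
  obtain ⟨g, hg, hrank⟩ := hconst
  obtain ⟨f, ψ, hf, hsurj⟩ := exists_map_away_surjective (M := M) p
  refine ⟨f * g, fun h => (p.isPrime.mem_or_mem h).elim hf hg, ?_⟩
  have hsub : (↑(PrimeSpectrum.basicOpen (f * g)) : Set (PrimeSpectrum R)) ⊆
      ↑(PrimeSpectrum.basicOpen f) := by
    intro q hq hfq
    exact hq (q.asIdeal.mul_mem_right _ hfq)
  have hsurj' : Function.Surjective (LocalizedModule.map (Submonoid.powers (f * g)) ψ) :=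
    (localizedMap_away_surjective_iff ψ (f * g)).2
      (hsub.trans ((localizedMap_away_surjective_iff ψ f).1 hsurj))
  have hinj := localizedMap_away_injective_of_flat ψ (f * g) hsurj' (by
    intro q hq
    exact hrank q (fun h => hq (q.asIdeal.mul_mem_left _ h)))
  have : Module.Free (Localization.Away (f * g))
      (LocalizedModule (Submonoid.powers (f * g))
        (Fin (Module.finrank p.asIdeal.ResidueField (p.asIdeal.ResidueField ⊗[R] M)) → R)) :=
    Module.free_of_isLocalizedModule (Rₛ := Localization.Away (f * g))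
      (Submonoid.powers (f * g))
      (LocalizedModule.mkLinearMap (Submonoid.powers (f * g))
        (Fin (Module.finrank p.asIdeal.ResidueField (p.asIdeal.ResidueField ⊗[R] M)) → R))
  exact Module.Free.of_equiv (LinearEquiv.ofBijective
    (LocalizedModule.map (Submonoid.powers (f * g)) ψ) ⟨hinj, hsurj'⟩)

/-- the fibre rank of a finite flat module is constant under generalization -/
lemma finrank_fibre_eq_of_le [Module.Finite R M] [Module.Flat R M] {p q : PrimeSpectrum R}
    (hpq : p ≤ q) :
    Module.finrank p.asIdeal.ResidueField (p.asIdeal.ResidueField ⊗[R] M) =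
      Module.finrank q.asIdeal.ResidueField (q.asIdeal.ResidueField ⊗[R] M) := by
  have h1 := Module.rankAtStalk_eq (M := M) p
  have h2 := Module.rankAtStalk_eq (M := M) q
  have h3 := Module.rankAtStalk_eq_of_le_of_finite_of_flat M hpq
  rw [h1, h2] at h3
  exact h3

/-- (1) ⇒ (2) of S6355 -/
theorem projective_of_finite_flat_of_closed_gen_open
    (H : ∀ Z : Set (PrimeSpectrum R), IsClosed Z → StableUnderGeneralization Z → IsOpen Z)
    [Module.Finite R M] [Module.Flat R M] : Module.Projective R M := by
  apply projective_of_forall_exists_away_free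
  intro p
  apply exists_away_free_of_flat p
  set r : PrimeSpectrum R → ℕ := fun q =>
    Module.finrank q.asIdeal.ResidueField (q.asIdeal.ResidueField ⊗[R] M) with hr
  -- `{q | r p ≤ r q}` is closed and stable under generalization
  have hclosed : IsClosed {q : PrimeSpectrum R | r p ≤ r q} := by
    rw [← isOpen_compl_iff, isOpen_iff_forall_mem_open]
    intro q₀ hq₀
    have hq₀' : r q₀ < r p := by simpa using hq₀
    obtain ⟨g, hg, hle⟩ := exists_basicOpen_finrank_le (M := M) q₀
    refine ⟨↑(PrimeSpectrum.basicOpen g), ?_, (PrimeSpectrum.basicOpen g).isOpen, hg⟩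
    intro q hq
    have : r q ≤ r q₀ := hle q hq
    simp only [Set.mem_compl_iff, Set.mem_ofPred_eq, not_le]
    omega
  have hgen : StableUnderGeneralization {q : PrimeSpectrum R | r p ≤ r q} := by
    intro x y hyx hx
    have hle : y ≤ x := (PrimeSpectrum.le_iff_specializes y x).2 hyx
    have : r y = r x := finrank_fibre_eq_of_le hle
    simp only [Set.mem_ofPred_eq] at hx ⊢
    omega
  have hopen1 := H _ hclosed hgen
  obtain ⟨g₁, hg₁, hle₁⟩ := exists_basicOpen_finrank_le (M := M) p
  obtain ⟨_, ⟨g₂, rfl⟩, hpg₂, hsub⟩ :=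
    PrimeSpectrum.isTopologicalBasis_basic_opens.exists_subset_of_mem_open
      (show p ∈ {q : PrimeSpectrum R | r p ≤ r q} from le_refl (r p)) hopen1
  refine ⟨g₁ * g₂, fun h => (p.isPrime.mem_or_mem h).elim hg₁ hpg₂, fun q hq => ?_⟩
  have h1 : r q ≤ r p := hle₁ q (fun h => hq (q.asIdeal.mul_mem_right _ h))
  have h2 : r p ≤ r q := hsub (show q ∈ (↑(PrimeSpectrum.basicOpen g₂) : Set (PrimeSpectrum R)) from
    fun h => hq (q.asIdeal.mul_mem_left _ h))
  exact le_antisymm h1 h2

end Groth.Agent.H71.Fib
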