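import Groth.Agent.H71.Fibre.Semicont

set_option autoImplicit false
set_option linter.unusedSectionVars false

open TensorProduct

namespace Groth.Agent.H71.Fib

universe u

section Ker

/-- the kernel of a surjection from a finite projective module onto a projective module is finite
projective -/
lemma finite_projective_ker_of_surjective {A : Type*} [CommRing A] {V W : Type*} [AddCommGroup V]
    [Module A V] [AddCommGroup W] [Module A W] [Module.Finite A V] [Module.Projective A V]
    [Module.Projective A W] (ψ : V →ₗ[A] W) (hψ : Function.Surjective ψ) :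
    Module.Finite A ↥(LinearMap.ker ψ) ∧ Module.Projective A ↥(LinearMap.ker ψ) := by
  obtain ⟨σ, hσ⟩ := ψ.exists_rightInverse_of_surjective (LinearMap.range_eq_top.2 hψ)
  have hmem : ∀ x : V, ((LinearMap.id - σ ∘ₗ ψ : V →ₗ[A] V)) x ∈ LinearMap.ker ψ := by
    intro x
    rw [LinearMap.mem_ker, LinearMap.sub_apply, map_sub, LinearMap.id_apply,
      LinearMap.comp_apply]
    have := LinearMap.congr_fun hσ (ψ x)
    rw [LinearMap.comp_apply, LinearMap.id_apply] at this
    rw [this, sub_self]
  let r : V →ₗ[A] ↥(LinearMap.ker ψ) :=
    LinearMap.codRestrict (LinearMap.ker ψ) (LinearMap.id - σ ∘ₗ ψ : V →ₗ[A] V) hmem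
  have hr : r ∘ₗ (LinearMap.ker ψ).subtype = LinearMap.id := by
    ext x
    have hx : ψ (x : V) = 0 := x.2
    simp [r, hx]
  have hrs : Function.Surjective r := fun y => ⟨y, LinearMap.congr_fun hr y⟩
  exact ⟨Module.Finite.of_surjective r hrs, Module.Projective.of_split _ r hr⟩

variable {R : Type u} [CommRing R] {P₁ P₂ : Type u} [AddCommGroup P₁] [Module R P₁]
  [AddCommGroup P₂] [Module R P₂]

/-- localization commutes with kernels, as an equivalence over the localized ring -/
noncomputable def localizedKerEquiv (S : Submonoid R) (φ : P₁ →ₗ[R] P₂) :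
    LocalizedModule S ↥(LinearMap.ker φ) ≃ₗ[Localization S]
      ↥(LinearMap.ker (LocalizedModule.map S φ)) := by
  have hinj : Function.Injective (LocalizedModule.map S (LinearMap.ker φ).subtype) :=
    LocalizedModule.map_injective S _ (Submodule.injective_subtype _)
  have hex := LocalizedModule.map_exact S (LinearMap.ker φ).subtype φ
    (LinearMap.exact_subtype_ker_map φ)
  have heq : LinearMap.range (LocalizedModule.map S (LinearMap.ker φ).subtype) =
      LinearMap.ker (LocalizedModule.map S φ) := by
    ext y
    rw [LinearMap.mem_ker, LinearMap.mem_range]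
    exact (hex y).symm
  exact (LinearEquiv.ofInjective _ hinj).trans (LinearEquiv.ofEq _ _ heq)

lemma setOf_lTensor_surjective_eq [Module.Finite R P₂] (φ : P₁ →ₗ[R] P₂) :
    {p : PrimeSpectrum R | Function.Surjective (φ.lTensor p.asIdeal.ResidueField)} =
      {p : PrimeSpectrum R |
        Function.Surjective (LocalizedModule.map p.asIdeal.primeCompl φ)} := by
  ext p
  exact (localizedMap_surjective_iff_lTensor_surjective φ p).symm

/-- S6330 -/
theorem surjective_locus_kernel_projective [Module.Finite R P₁] [Module.Projective R P₁]
    [Module.Finite R P₂] [Module.Projective R P₂] (φ : P₁ →ₗ[R] P₂) :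
    IsOpen {p : PrimeSpectrum R | Function.Surjective (φ.lTensor p.asIdeal.ResidueField)} ∧
      ∀ f : R, (↑(PrimeSpectrum.basicOpen f) : Set (PrimeSpectrum R)) ⊆
          {p : PrimeSpectrum R | Function.Surjective (φ.lTensor p.asIdeal.ResidueField)} →
        Function.Surjective (LocalizedModule.map (Submonoid.powers f) φ) ∧
        Module.Finite (Localization.Away f)
          (LocalizedModule (Submonoid.powers f) ↥(LinearMap.ker φ)) ∧
        Module.Projective (Localization.Away f)
          (LocalizedModule (Submonoid.powers f) ↥(LinearMap.ker φ)) := by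
  rw [setOf_lTensor_surjective_eq]
  refine ⟨isOpen_setOf_localizedMap_surjective φ, fun f hf => ?_⟩
  have hsurj := localizedMap_away_surjective_of_basicOpen_subset φ f hf
  obtain ⟨h1, h2⟩ := finite_projective_ker_of_surjective
    (LocalizedModule.map (Submonoid.powers f) φ) hsurj
  exact ⟨hsurj, Module.Finite.equiv (localizedKerEquiv (Submonoid.powers f) φ).symm,
    Module.Projective.of_equiv (localizedKerEquiv (Submonoid.powers f) φ).symm⟩

end Ker

end Groth.Agent.H71.Fib
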