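import Groth.Agent.H71.Fibre.FlatProj

set_option autoImplicit false
set_option linter.unusedSectionVars false

namespace Groth.Agent.H71.Fib

universe u

variable {R : Type u} [CommRing R]

/-- the multiplicative set `1 + J` -/
def onePlus (J : Ideal R) : Submonoid R where
  carrier := {s | s - 1 ∈ J}
  one_mem' := by simp
  mul_mem' := by
    intro a b ha hb
    have : a * b - 1 = (a - 1) * b + (b - 1) := by ring
    simp only [Set.mem_ofPred_eq] at ha hb ⊢
    rw [this]
    exact J.add_mem (J.mul_mem_right _ ha) hb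

lemma mem_onePlus {J : Ideal R} {s : R} : s ∈ onePlus J ↔ s - 1 ∈ J := Iff.rfl

/-- primes disjoint from `1 + J` are the generalizations of points of `V(J)` -/
lemma disjoint_onePlus_iff (J : Ideal R) (Z : Set (PrimeSpectrum R))
    (hZ : Z = PrimeSpectrum.zeroLocus (J : Set R)) (hgen : StableUnderGeneralization Z)
    (p : PrimeSpectrum R) :
    Disjoint (onePlus J : Set R) (p.asIdeal : Set R) ↔ p ∈ Z := by
  constructor
  · intro hdis
    have hne : p.asIdeal ⊔ J ≠ ⊤ := by
      intro htop
      have h1 : (1 : R) ∈ p.asIdeal ⊔ J := by rw [htop]; trivial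
      obtain ⟨a, ha, y, hy, hay⟩ := Submodule.mem_sup.1 h1
      have has : a ∈ onePlus J := by
        rw [mem_onePlus]
        have : a - 1 = -y := by rw [← hay]; ring
        rw [this]
        exact J.neg_mem hy
      exact Set.disjoint_left.1 hdis has ha
    obtain ⟨m, hm, hle⟩ := Ideal.exists_le_maximal _ hne
    have hmZ : (⟨m, hm.isPrime⟩ : PrimeSpectrum R) ∈ Z := by
      rw [hZ, PrimeSpectrum.mem_zeroLocus]
      exact fun y hy => hle (Ideal.mem_sup_right hy)
    refine hgen ?_ hmZ
    rw [← PrimeSpectrum.le_iff_specializes]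
    exact fun x hx => hle (Ideal.mem_sup_left hx)
  · intro hp
    rw [hZ, PrimeSpectrum.mem_zeroLocus] at hp
    rw [Set.disjoint_left]
    intro s hs hsp
    have h1 : (1 : R) ∈ p.asIdeal := by
      have : (1 : R) = s - (s - 1) := by ring
      rw [this]
      exact p.asIdeal.sub_mem hsp (hp hs)
    exact p.isPrime.ne_top ((Ideal.eq_top_iff_one _).2 h1)

end Groth.Agent.H71.Fib
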