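import Groth.Agent.H71.Fibre.OnePlus

set_option autoImplicit false
set_option linter.unusedSectionVars false

namespace Groth.Agent.H71.Fib

universe u

variable {R : Type u} [CommRing R]

/-- elements of `J` become nilpotent in the localization at `1 + J` when `V(J)` is stable under
generalization -/
lemma isNilpotent_algebraMap_of_mem (J : Ideal R)
    (hgen : StableUnderGeneralization (PrimeSpectrum.zeroLocus (J : Set R))) {y : R} (hy : y ∈ J) :
    IsNilpotent (algebraMap R (Localization (onePlus J)) y) := by
  rw [← mem_nilradical, nilradical_eq_sInf, Ideal.mem_sInf]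
  intro P hP
  have hP' : P.IsPrime := hP
  have hdis : Disjoint (onePlus J : Set R) ((P.comap (algebraMap R (Localization (onePlus J))) : Ideal R) : Set R) :=
    ((IsLocalization.isPrime_iff_isPrime_disjoint (onePlus J) (Localization (onePlus J)) P).1 hP').2
  have hmem := (disjoint_onePlus_iff J _ rfl hgen
    ⟨P.comap (algebraMap R (Localization (onePlus J))), inferInstance⟩).1 hdis
  rw [PrimeSpectrum.mem_zeroLocus] at hmem
  exact hmem hy

lemma algebraMap_surjective_of_stable (J : Ideal R)
    (hgen : StableUnderGeneralization (PrimeSpectrum.zeroLocus (J : Set R))) :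
    Function.Surjective (algebraMap R (Localization (onePlus J))) := by
  intro z
  obtain ⟨r, s, rfl⟩ := IsLocalization.exists_mk'_eq (onePlus J) z
  -- `s = 1 + y` with `y ∈ J`, `algebraMap y` nilpotent
  have hy : (s : R) - 1 ∈ J := s.2
  obtain ⟨k, hk⟩ := isNilpotent_algebraMap_of_mem J hgen hy
  set n := algebraMap R (Localization (onePlus J)) ((s : R) - 1) with hn
  have hs : algebraMap R (Localization (onePlus J)) (s : R) = 1 - (-n) := by
    rw [hn, map_sub, map_one]; ring
  have hinv : algebraMap R (Localization (onePlus J)) (s : R) *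
      algebraMap R (Localization (onePlus J)) (∑ i ∈ Finset.range k, (-((s : R) - 1)) ^ i) = 1 := by
    rw [map_sum, hs]
    simp only [map_pow, map_neg]
    rw [← hn, mul_neg_geom_sum, neg_pow, hk, mul_zero, sub_zero]
  refine ⟨r * ∑ i ∈ Finset.range k, (-((s : R) - 1)) ^ i, ?_⟩
  rw [IsLocalization.eq_mk'_iff_mul_eq, map_mul, mul_assoc, mul_comm (algebraMap R _ (∑ i ∈ Finset.range k, (-((s : R) - 1)) ^ i)), hinv, mul_one]

end Groth.Agent.H71.Fib
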