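import Groth.Agent.H71.Fibre.Basic

set_option autoImplicit false
set_option linter.unusedSectionVars false

open TensorProduct

namespace Groth.Agent.H71.Fib

universe u

section Rank

variable {R : Type u} [CommRing R] {M N : Type u} [AddCommGroup M] [Module R M]
  [AddCommGroup N] [Module R N]

/-- surjectivity of `φ_f` in terms of the surjectivity locus -/
lemma localizedMap_away_surjective_iff [Module.Finite R N] (φ : M →ₗ[R] N) (f : R) :
    Function.Surjective (LocalizedModule.map (Submonoid.powers f) φ) ↔
      (↑(PrimeSpectrum.basicOpen f) : Set (PrimeSpectrum R)) ⊆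
        {p : PrimeSpectrum R |
          Function.Surjective (LocalizedModule.map p.asIdeal.primeCompl φ)} := by
  refine ⟨fun h => ?_, localizedMap_away_surjective_of_basicOpen_subset φ f⟩
  rw [LinearMap.localizedMap_surjective_iff_subsingleton_localized_coker] at h
  have h' : Subsingleton (LocalizedModule.Away f (N ⧸ LinearMap.range φ)) := h
  rw [LocalizedModule.subsingleton_iff_support_subset] at h'
  rw [setOf_localizedMap_surjective_eq]
  intro p hp hps
  have := h' hps
  rw [PrimeSpectrum.mem_zeroLocus, Set.singleton_subset_iff] at this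
  exact hp this

/-- the vectors `1 ⊗ m` span the fibre -/
lemma span_one_tmul_eq_top (A : Type*) [CommRing A] [Algebra R A] :
    Submodule.span A (Set.range fun m : M => (1 : A) ⊗ₜ[R] m) = ⊤ := by
  have h := Submodule.baseChange_top (R := R) (M := M) A
  rw [← Submodule.span_univ, Submodule.baseChange_span] at h
  rw [← h]
  congr 1
  ext x
  simp

/-- T2: around a prime `p`, a finite module is generated by `dim κ(p) ⊗ M` elements -/
theorem exists_map_away_surjective [Module.Finite R M] (p : PrimeSpectrum R) :
    ∃ (f : R) (ψ : (Fin (Module.finrank p.asIdeal.ResidueField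
        (p.asIdeal.ResidueField ⊗[R] M)) → R) →ₗ[R] M),
      f ∉ p.asIdeal ∧ Function.Surjective (LocalizedModule.map (Submonoid.powers f) ψ) := by
  set κ := p.asIdeal.ResidueField with hκ
  obtain ⟨ι, a, -, hspan, hli⟩ := exists_linearIndependent' κ (fun m : M => (1 : κ) ⊗ₜ[R] m)
  rw [span_one_tmul_eq_top] at hspan
  let b : Module.Basis ι κ (κ ⊗[R] M) := Module.Basis.mk hli hspan.ge
  have : Fintype ι := FiniteDimensional.fintypeBasisIndex b
  have hcard : Module.finrank κ (κ ⊗[R] M) = Fintype.card ι := Module.finrank_eq_card_basis b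
  rw [hcard]
  let e : Fin (Fintype.card ι) ≃ ι := (Fintype.equivFin ι).symm
  let ψ : (Fin (Fintype.card ι) → R) →ₗ[R] M :=
    (Pi.basisFun R (Fin (Fintype.card ι))).constr R (fun i => a (e i))
  have hψ : ∀ i, ψ (Pi.single i 1) = a (e i) := by
    intro i
    have := (Pi.basisFun R (Fin (Fintype.card ι))).constr_basis R (fun i => a (e i)) i
    rw [Pi.basisFun_apply] at this
    exact this
  have hsurjκ : Function.Surjective (ψ.lTensor κ) := by
    rw [← LinearMap.range_eq_top]
    -- the range is a κ-submodule: use baseChange
    have hr : LinearMap.range (ψ.baseChange κ) = ⊤ := by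
      rw [eq_top_iff, ← hspan, Submodule.span_le]
      rintro _ ⟨j, rfl⟩
      refine ⟨(1 : κ) ⊗ₜ[R] (Pi.single (e.symm j) 1), ?_⟩
      simp [hψ]
    rw [eq_top_iff]
    intro x _
    have : x ∈ LinearMap.range (ψ.baseChange κ) := by rw [hr]; trivial
    obtain ⟨y, hy⟩ := this
    exact ⟨y, hy⟩
  have hsurjp := (localizedMap_surjective_iff_lTensor_surjective ψ p).2 hsurjκ
  obtain ⟨f, hf, hsurjf⟩ :=
    Module.exists_localizedMap_away_surjective_of_localizedMap_atPrime_surjective p.asIdeal ψ hsurjp
  exact ⟨f, ψ, hf, hsurjf⟩

/-- coordinates of a vector killed in a fibre lie in the prime -/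
lemma mem_of_one_tmul_eq_zero (q : PrimeSpectrum R) {n : ℕ} (y : Fin n → R)
    (h : (1 : q.asIdeal.ResidueField) ⊗ₜ[R] y = 0) (i : Fin n) : y i ∈ q.asIdeal := by
  have h1 := congrArg
    ((LinearMap.proj i : (Fin n → R) →ₗ[R] R).lTensor q.asIdeal.ResidueField) h
  rw [LinearMap.lTensor_tmul, map_zero] at h1
  have h2 := congrArg (TensorProduct.rid R q.asIdeal.ResidueField) h1
  rw [TensorProduct.rid_tmul, map_zero] at h2
  rw [LinearMap.proj_apply, Algebra.smul_def, mul_one] at h2
  exact (Ideal.algebraMap_residueField_eq_zero).1 h2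

/-- T3: over a reduced ring, a surjection `R_f^n → M_f` is injective when all the fibres of `M`
over `D(f)` have dimension `n` -/
theorem localizedMap_away_injective_of_finrank_eq [IsReduced R] [Module.Finite R M] {n : ℕ}
    (ψ : (Fin n → R) →ₗ[R] M) (f : R)
    (hsurj : Function.Surjective (LocalizedModule.map (Submonoid.powers f) ψ))
    (hrank : ∀ q : PrimeSpectrum R, f ∉ q.asIdeal →
      Module.finrank q.asIdeal.ResidueField (q.asIdeal.ResidueField ⊗[R] M) = n) :
    Function.Injective (LocalizedModule.map (Submonoid.powers f) ψ) := by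
  have hloc := (localizedMap_away_surjective_iff ψ f).1 hsurj
  -- key: a vector of the kernel of `ψ` has coordinates killed by `f`
  have key : ∀ y : Fin n → R, ψ y = 0 → ∀ i, f * y i = 0 := by
    intro y hy i
    apply IsReduced.eq_zero
    rw [← mem_nilradical, nilradical_eq_sInf, Ideal.mem_sInf]
    intro Q hQ
    have hQp : Q.IsPrime := hQ
    by_cases hf : f ∈ Q
    · exact Q.mul_mem_right _ hf
    · apply Q.mul_mem_left
      set q : PrimeSpectrum R := ⟨Q, hQp⟩ with hq
      have hsq : Function.Surjective (ψ.lTensor q.asIdeal.ResidueField) :=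
        (localizedMap_surjective_iff_lTensor_surjective ψ q).1 (hloc hf)
      have hsq' : Function.Surjective (ψ.baseChange q.asIdeal.ResidueField) := hsq
      have : Nontrivial R := PrimeSpectrum.nonempty_iff_nontrivial.1 ⟨q⟩
      have hfr : Module.finrank q.asIdeal.ResidueField
          (q.asIdeal.ResidueField ⊗[R] (Fin n → R)) =
          Module.finrank q.asIdeal.ResidueField (q.asIdeal.ResidueField ⊗[R] M) := by
        rw [hrank q hf, Module.finrank_baseChange, Module.finrank_fin_fun]
      have hinj : Function.Injective (ψ.baseChange q.asIdeal.ResidueField) :=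
        (LinearMap.injective_iff_surjective_of_finrank_eq_finrank hfr).2 hsq'
      have h0 : ψ.baseChange q.asIdeal.ResidueField ((1 : q.asIdeal.ResidueField) ⊗ₜ[R] y) = 0 := by
        rw [LinearMap.baseChange_tmul, hy, tmul_zero]
      have h1 : (1 : q.asIdeal.ResidueField) ⊗ₜ[R] y = 0 := hinj (h0.trans (map_zero _).symm)
      exact mem_of_one_tmul_eq_zero q y h1 i
  rw [injective_iff_map_eq_zero]
  intro z hz
  induction z using LocalizedModule.induction_on with
  | h x s =>
    rw [LocalizedModule.map_mk, ← LocalizedModule.zero_mk s, LocalizedModule.mk_eq] at hz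
    obtain ⟨u, hu⟩ := hz
    rw [smul_zero, smul_zero] at hu
    -- hu : u • s • ψ x = 0
    have hy : ψ (((u : R) * (s : R)) • x) = 0 := by
      rw [map_smul, mul_smul]; exact hu
    have hk := key _ hy
    rw [← LocalizedModule.zero_mk s, LocalizedModule.mk_eq]
    refine ⟨⟨f, Submonoid.mem_powers f⟩ * (u * s), ?_⟩
    rw [smul_zero, smul_zero]
    ext i
    have := hk i
    simp only [Pi.smul_apply, Pi.zero_apply, Submonoid.smul_def, smul_eq_mul, Submonoid.coe_mul]
      at this ⊢
    calc f * (↑u * ↑s) * (↑s * x i) = ↑s * (f * (↑u * ↑s * x i)) := by ring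
      _ = 0 := by rw [this, mul_zero]

/-- over a reduced ring, a finite module whose fibre rank is constant near `p` is free near `p` -/
theorem exists_away_free [IsReduced R] [Module.Finite R M] (p : PrimeSpectrum R)
    (hconst : ∃ g : R, g ∉ p.asIdeal ∧ ∀ q : PrimeSpectrum R, g ∉ q.asIdeal →
      Module.finrank q.asIdeal.ResidueField (q.asIdeal.ResidueField ⊗[R] M) =
        Module.finrank p.asIdeal.ResidueField (p.asIdeal.ResidueField ⊗[R] M)) :
    ∃ h : R, h ∉ p.asIdeal ∧
      Module.Free (Localization.Away h) (LocalizedModule (Submonoid.powers h) M) := by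
  obtain ⟨g, hg, hrank⟩ := hconst
  obtain ⟨f, ψ, hf, hsurj⟩ := exists_map_away_surjective (M := M) p
  refine ⟨f * g, fun h => (p.isPrime.mem_or_mem h).elim hf hg, ?_⟩
  have hsub : (↑(PrimeSpectrum.basicOpen (f * g)) : Set (PrimeSpectrum R)) ⊆
      ↑(PrimeSpectrum.basicOpen f) := by
    intro q hq hfq
    exact hq (q.asIdeal.mul_mem_right _ hfq)
  have hsurj' : Function.Surjective (LocalizedModule.map (Submonoid.powers (f * g)) ψ) :=
    (localizedMap_away_surjective_iff ψ (f * g)).2
      (hsub.trans ((localizedMap_away_surjective_iff ψ f).1 hsurj))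
  have hinj := localizedMap_away_injective_of_finrank_eq ψ (f * g) hsurj' (by
    intro q hq
    exact hrank q (fun h => hq (q.asIdeal.mul_mem_left _ h)))
  have : Module.Free (Localization.Away (f * g))
      (LocalizedModule (Submonoid.powers (f * g))
        (Fin (Module.finrank p.asIdeal.ResidueField (p.asIdeal.ResidueField ⊗[R] M)) → R)) :=
    Module.free_of_isLocalizedModule (Rₛ := Localization.Away (f * g))
      (Submonoid.powers (f * g))
      (LocalizedModule.mkLinearMap (Submonoid.powers (f * g))
        (Fin (Module.finrank p.asIdeal.ResidueField (p.asIdeal.ResidueField ⊗[R] M)) → R))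
  exact Module.Free.of_equiv (LinearEquiv.ofBijective
    (LocalizedModule.map (Submonoid.powers (f * g)) ψ) ⟨hinj, hsurj'⟩)

/-- a finite module which is free on a neighbourhood of every prime is projective -/
theorem projective_of_forall_exists_away_free [Module.Finite R M]
    (h : ∀ p : PrimeSpectrum R, ∃ h : R, h ∉ p.asIdeal ∧
      Module.Free (Localization.Away h) (LocalizedModule (Submonoid.powers h) M)) :
    Module.Projective R M := by
  set s : Set R := {h : R | Module.Free (Localization.Away h)
    (LocalizedModule (Submonoid.powers h) M)} with hs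
  have hspan : Ideal.span s = ⊤ := by
    by_contra hne
    obtain ⟨m, hm, hle⟩ := Ideal.exists_le_maximal _ hne
    obtain ⟨r, hr, hfree⟩ := h ⟨m, hm.isPrime⟩
    exact hr (hle (Ideal.subset_span hfree))
  have hfp : Module.FinitePresentation R M := by
    apply Module.FinitePresentation.of_localizationSpan s hspan
    intro g
    have : Module.Free (Localization.Away g.1) (LocalizedModule (Submonoid.powers g.1) M) := g.2
    exact Module.finitePresentation_of_projective _ _
  have hflat : Module.Flat R M := by
    apply Module.flat_of_localized_span R M s hspan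
    intro g
    have : Module.Free (Localization.Away g.1) (LocalizedModule (Submonoid.powers g.1) M) := g.2
    exact Module.Flat.trans R (Localization.Away g.1) _
  exact Module.Flat.projective_of_finitePresentation

/-- S6266 -/
theorem finite_projective_iff_fibreRank_locallyConstant [IsReduced R] :
    (Module.Finite R M ∧ Module.Projective R M) ↔
      (Module.Finite R M ∧ IsLocallyConstant (fun p : PrimeSpectrum R =>
        Module.finrank p.asIdeal.ResidueField (p.asIdeal.ResidueField ⊗[R] M))) := by
  constructor
  · rintro ⟨hfin, hproj⟩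
    refine ⟨hfin, ?_⟩
    have : Module.FinitePresentation R M := Module.finitePresentation_of_projective _ _
    have h1 := Module.isLocallyConstant_rankAtStalk (R := R) (M := M)
    have h2 : (fun p : PrimeSpectrum R =>
        Module.finrank p.asIdeal.ResidueField (p.asIdeal.ResidueField ⊗[R] M)) =
        Module.rankAtStalk (R := R) M := by
      funext p
      exact (Module.rankAtStalk_eq p).symm
    rw [h2]; exact h1
  · rintro ⟨hfin, hlc⟩
    refine ⟨hfin, ?_⟩
    apply projective_of_forall_exists_away_free
    intro p
    apply exists_away_free p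
    -- a basic open neighbourhood of `p` on which the rank is constant
    have hopen := hlc.isOpen_fiber (Module.finrank p.asIdeal.ResidueField
      (p.asIdeal.ResidueField ⊗[R] M))
    obtain ⟨_, ⟨g, rfl⟩, hpg, hsub⟩ :=
      PrimeSpectrum.isTopologicalBasis_basic_opens.exists_subset_of_mem_open
        (a := p) (u := {x : PrimeSpectrum R | Module.finrank x.asIdeal.ResidueField
          (x.asIdeal.ResidueField ⊗[R] M) = Module.finrank p.asIdeal.ResidueField
          (p.asIdeal.ResidueField ⊗[R] M)}) rfl hopen
    exact ⟨g, hpg, fun q hq => hsub hq⟩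

end Rank

end Groth.Agent.H71.Fib
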