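import Groth.Agent.H71.Fibre.Rank

set_option autoImplicit false
set_option linter.unusedSectionVars false

open TensorProduct

namespace Groth.Agent.H71.Fib

universe u

section Semicont

variable {R : Type u} [CommRing R] {M N : Type u} [AddCommGroup M] [Module R M]
  [AddCommGroup N] [Module R N]

/-- upper semicontinuity of the fibre dimension of a finite module -/
theorem exists_basicOpen_finrank_le [Module.Finite R M] (p : PrimeSpectrum R) :
    ∃ f : R, f ∉ p.asIdeal ∧ ∀ q : PrimeSpectrum R, f ∉ q.asIdeal →
      Module.finrank q.asIdeal.ResidueField (q.asIdeal.ResidueField ⊗[R] M) ≤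
        Module.finrank p.asIdeal.ResidueField (p.asIdeal.ResidueField ⊗[R] M) := by
  obtain ⟨f, ψ, hf, hsurj⟩ := exists_map_away_surjective (M := M) p
  refine ⟨f, hf, fun q hq => ?_⟩
  have hloc := (localizedMap_away_surjective_iff ψ f).1 hsurj
  have hsq : Function.Surjective (ψ.lTensor q.asIdeal.ResidueField) :=
    (localizedMap_surjective_iff_lTensor_surjective ψ q).1 (hloc hq)
  have hsq' : Function.Surjective (ψ.baseChange q.asIdeal.ResidueField) := hsq
  have : Nontrivial R := PrimeSpectrum.nonempty_iff_nontrivial.1 ⟨q⟩
  have h1 := LinearMap.finrank_le_finrank_of_surjective hsq'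
  have e : ∀ n : ℕ, Module.finrank q.asIdeal.ResidueField
      (q.asIdeal.ResidueField ⊗[R] (Fin n → R)) = n := by
    intro n
    rw [Module.finrank_baseChange, Module.finrank_fin_fun]
  rw [e] at h1
  exact h1

/-- dimension count in a fibre -/
lemma finrank_fibre_eq_add (k : Type*) [Field k] [Algebra R k] [Module.Finite R N] (φ : M →ₗ[R] N) :
    Module.finrank k (k ⊗[R] N) =
      Module.finrank k ↥(LinearMap.range (φ.baseChange k)) +
        Module.finrank k (k ⊗[R] (N ⧸ LinearMap.range φ)) := by
  have hex : Function.Exact (φ.baseChange k) ((LinearMap.range φ).mkQ.baseChange k) :=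
    lTensor_exact k (LinearMap.exact_map_mkQ_range φ) (Submodule.mkQ_surjective _)
  have hsurj : Function.Surjective ((LinearMap.range φ).mkQ.baseChange k) :=
    LinearMap.lTensor_surjective k (Submodule.mkQ_surjective _)
  have h1 := LinearMap.finrank_range_add_finrank_ker ((LinearMap.range φ).mkQ.baseChange k)
  rw [LinearMap.range_eq_top.2 hsurj, finrank_top, (LinearMap.exact_iff.1 hex)] at h1
  rw [← h1, add_comm]

/-- local constancy of the fibre dimension of a finite flat module over a noetherian ring -/
lemma isLocallyConstant_finrank_fibre [IsNoetherianRing R] [Module.Finite R N] [Module.Flat R N] :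
    IsLocallyConstant (fun p : PrimeSpectrum R =>
      Module.finrank p.asIdeal.ResidueField (p.asIdeal.ResidueField ⊗[R] N)) := by
  have : Module.FinitePresentation R N := Module.finitePresentation_of_finite R N
  have h1 := Module.isLocallyConstant_rankAtStalk (R := R) (M := N)
  have h2 : (fun p : PrimeSpectrum R =>
      Module.finrank p.asIdeal.ResidueField (p.asIdeal.ResidueField ⊗[R] N)) =
      Module.rankAtStalk (R := R) N := by
    funext p
    exact (Module.rankAtStalk_eq p).symm
  rw [h2]; exact h1

/-- S14336 -/
theorem lowerSemicontinuous_finrank_range [IsNoetherianRing R] [Module.Finite R N]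
    [Module.Flat R N] (φ : M →ₗ[R] N) :
    LowerSemicontinuous (fun y : PrimeSpectrum R =>
      Module.finrank y.asIdeal.ResidueField
        ↥(LinearMap.range (φ.baseChange y.asIdeal.ResidueField))) := by
  intro p c hc
  have hopen := (isLocallyConstant_finrank_fibre (R := R) (N := N)).isOpen_fiber
    (Module.finrank p.asIdeal.ResidueField (p.asIdeal.ResidueField ⊗[R] N))
  obtain ⟨f, hf, hle⟩ := exists_basicOpen_finrank_le (M := N ⧸ LinearMap.range φ) p
  have hmem : p ∈ {x : PrimeSpectrum R | Module.finrank x.asIdeal.ResidueField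
      (x.asIdeal.ResidueField ⊗[R] N) = Module.finrank p.asIdeal.ResidueField
      (p.asIdeal.ResidueField ⊗[R] N)} ∩ (↑(PrimeSpectrum.basicOpen f) : Set (PrimeSpectrum R)) :=
    ⟨rfl, hf⟩
  refine Filter.eventually_of_mem ((hopen.inter (PrimeSpectrum.basicOpen f).isOpen).mem_nhds hmem)
    ?_
  rintro q ⟨hq1, hq2⟩
  have e1 := finrank_fibre_eq_add q.asIdeal.ResidueField φ
  have e2 := finrank_fibre_eq_add p.asIdeal.ResidueField φ
  have h3 := hle q hq2
  have hq1' : Module.finrank q.asIdeal.ResidueField (q.asIdeal.ResidueField ⊗[R] N) =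
      Module.finrank p.asIdeal.ResidueField (p.asIdeal.ResidueField ⊗[R] N) := hq1
  refine lt_of_lt_of_le hc ?_
  show Module.finrank p.asIdeal.ResidueField
      ↥(LinearMap.range (φ.baseChange p.asIdeal.ResidueField)) ≤
    Module.finrank q.asIdeal.ResidueField
      ↥(LinearMap.range (φ.baseChange q.asIdeal.ResidueField))
  omega

/-- the kernel of a surjection onto a projective module from a projective module is projective;
here for the range of `φ` inside `N` with projective cokernel -/
lemma projective_range_of_projective_coker [Module.Projective R N] (φ : M →ₗ[R] N)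
    [Module.Projective R (N ⧸ LinearMap.range φ)] : Module.Projective R ↥(LinearMap.range φ) := by
  obtain ⟨σ, hσ⟩ := (LinearMap.range φ).mkQ.exists_rightInverse_of_surjective
    (LinearMap.range_eq_top.2 (Submodule.mkQ_surjective _))
  have hmem : ∀ x : N, ((LinearMap.id - σ ∘ₗ (LinearMap.range φ).mkQ : N →ₗ[R] N)) x ∈
      LinearMap.range φ := by
    intro x
    have hk : ((LinearMap.id - σ ∘ₗ (LinearMap.range φ).mkQ : N →ₗ[R] N)) x ∈
        LinearMap.ker (LinearMap.range φ).mkQ := by
      rw [LinearMap.mem_ker, LinearMap.sub_apply, map_sub, LinearMap.id_apply,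
        LinearMap.comp_apply]
      have := LinearMap.congr_fun hσ ((LinearMap.range φ).mkQ x)
      rw [LinearMap.comp_apply, LinearMap.id_apply] at this
      rw [this, sub_self]
    rwa [Submodule.ker_mkQ] at hk
  let s : N →ₗ[R] ↥(LinearMap.range φ) :=
    LinearMap.codRestrict (LinearMap.range φ)
      (LinearMap.id - σ ∘ₗ (LinearMap.range φ).mkQ : N →ₗ[R] N) hmem
  apply Module.Projective.of_split (LinearMap.range φ).subtype s
  ext x
  have hx : (LinearMap.range φ).mkQ (x : N) = 0 := by
    rw [← LinearMap.mem_ker, Submodule.ker_mkQ]; exact x.2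
  simp [s, hx]

/-- S14338 -/
theorem projective_coker_and_range [IsNoetherianRing R] [IsReduced R] [Module.Finite R N]
    [Module.Flat R N] (φ : M →ₗ[R] N)
    (hconst : ∃ c : ℕ, ∀ y : PrimeSpectrum R, Module.finrank y.asIdeal.ResidueField
      ↥(LinearMap.range (φ.baseChange y.asIdeal.ResidueField)) = c) :
    Module.Projective R (N ⧸ LinearMap.range φ) ∧ Module.Projective R ↥(LinearMap.range φ) := by
  obtain ⟨c, hc⟩ := hconst
  have hlc := isLocallyConstant_finrank_fibre (R := R) (N := N)
  have hfun : (fun p : PrimeSpectrum R => Module.finrank p.asIdeal.ResidueField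
      (p.asIdeal.ResidueField ⊗[R] (N ⧸ LinearMap.range φ))) =
      (fun n : ℕ => n - c) ∘ (fun p : PrimeSpectrum R =>
        Module.finrank p.asIdeal.ResidueField (p.asIdeal.ResidueField ⊗[R] N)) := by
    funext p
    have e1 := finrank_fibre_eq_add p.asIdeal.ResidueField φ
    rw [hc p] at e1
    simp only [Function.comp_apply]
    omega
  have hlc' : IsLocallyConstant (fun p : PrimeSpectrum R => Module.finrank p.asIdeal.ResidueField
      (p.asIdeal.ResidueField ⊗[R] (N ⧸ LinearMap.range φ))) := by
    rw [hfun]; exact hlc.comp _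
  have hproj : Module.Projective R (N ⧸ LinearMap.range φ) :=
    ((finite_projective_iff_fibreRank_locallyConstant (R := R)
      (M := N ⧸ LinearMap.range φ)).2 ⟨inferInstance, hlc'⟩).2
  have : Module.FinitePresentation R N := Module.finitePresentation_of_finite R N
  have : Module.Projective R N := Module.Flat.projective_of_finitePresentation
  exact ⟨hproj, projective_range_of_projective_coker φ⟩

end Semicont

end Groth.Agent.H71.Fib
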